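import Mathlib

/-!
# Arithmetic of the growth of tensor powers of rank two extensions
-/

set_option autoImplicit false

namespace K427.BogAlg

theorem quad (f : ℤ → ℤ) (s : ℤ) (hf : ∀ i, f i - 2 * f (i + 1) + f (i + 2) = s) (i : ℤ) :
    2 * f i = s * i ^ 2 + (2 * (f 1 - f 0) - s) * i + 2 * f 0 := by
  have key : ∀ i : ℤ, (2 * f i = s * i ^ 2 + (2 * (f 1 - f 0) - s) * i + 2 * f 0) ∧
      (2 * f (i + 1) = s * (i + 1) ^ 2 + (2 * (f 1 - f 0) - s) * (i + 1) + 2 * f 0) := by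
    intro i
    induction i using Int.induction_on with
    | zero => constructor <;> ring_nf
    | succ i ih =>
      refine ⟨ih.2, ?_⟩
      have h := hf (i : ℤ)
      have e : ((i : ℤ) + 1 + 1) = (i : ℤ) + 2 := by ring
      rw [e]
      nlinarith [ih.1, ih.2]
    | pred i ih =>
      have h := hf (-(i : ℤ) - 1)
      have e1 : (-(i : ℤ) - 1 + 1) = -(i : ℤ) := by ring
      have e2 : (-(i : ℤ) - 1 + 2) = -(i : ℤ) + 1 := by ring
      rw [e1, e2] at h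
      refine ⟨?_, ?_⟩
      · nlinarith [ih.1, ih.2]
      · rw [e1]
        have := ih.1
        nlinarith [ih.1]
  exact (key i).1

/-- Closed form of the Euler characteristics. -/
theorem closed_form (f : ℤ → ℤ) (s ell : ℤ) (hf : ∀ i, f i - 2 * f (i + 1) + f (i + 2) = s)
    (T : ℕ → ℤ → ℤ) (h0 : ∀ i, T 0 i = f i) (hs : ∀ m i, T (m + 1) i = T m i + T m (i + 1) - 2 ^ m * ell)
    (m : ℕ) (i : ℤ) :
    (T m i : ℚ) = 2 ^ m * ((s : ℚ) / 2 * ((i + m / 2) ^ 2 + m / 4) +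
      ((f 1 : ℚ) - f 0 - s / 2) * (i + m / 2) + f 0 - m * ell / 2) := by
  induction m generalizing i with
  | zero =>
    have h1 := quad f s hf i
    have h2 : (2 * (f i : ℚ)) = s * i ^ 2 + (2 * ((f 1 : ℚ) - f 0) - s) * i + 2 * f 0 := by exact_mod_cast h1
    rw [h0]
    push_cast
    linear_combination h2 / 2
  | succ m ih =>
    rw [hs]
    push_cast
    rw [ih, ih]
    push_cast
    ring

/-- The value at the middle. -/
theorem closed_mid (f : ℤ → ℤ) (s ell : ℤ) (hf : ∀ i, f i - 2 * f (i + 1) + f (i + 2) = s)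
    (T : ℕ → ℤ → ℤ) (h0 : ∀ i, T 0 i = f i) (hs : ∀ m i, T (m + 1) i = T m i + T m (i + 1) - 2 ^ m * ell)
    (n : ℕ) : (T (2 * n) (-n) : ℚ) = 4 ^ n * ((n : ℚ) * (s - 4 * ell) / 4 + f 0) := by
  rw [closed_form f s ell hf T h0 hs, pow_mul]
  push_cast
  ring

theorem upper (H : ℕ → ℤ → ℤ) (ε c : ℚ) (h0 : ∀ i, (H 0 i : ℚ) ≤ ε * (i : ℚ) ^ 2 + c)
    (hs : ∀ m i, H (m + 1) i ≤ H m i + H m (i + 1)) (m : ℕ) (i : ℤ) :
    (H m i : ℚ) ≤ 2 ^ m * (ε * (((i : ℚ) + m / 2) ^ 2 + m / 4) + c) := by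
  induction m generalizing i with
  | zero => simpa using h0 i
  | succ m ih =>
    have h1 : (H (m + 1) i : ℚ) ≤ H m i + H m (i + 1) := by exact_mod_cast hs m i
    have h2 := ih i
    have h3 := ih (i + 1)
    refine h1.trans ((add_le_add h2 h3).trans (le_of_eq ?_))
    push_cast
    ring

theorem upper_mid (H : ℕ → ℤ → ℤ) (ε c : ℚ) (h0 : ∀ i, (H 0 i : ℚ) ≤ ε * (i : ℚ) ^ 2 + c)
    (hs : ∀ m i, H (m + 1) i ≤ H m i + H m (i + 1)) (n : ℕ) :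
    (H (2 * n) (-n) : ℚ) ≤ 4 ^ n * (ε * n / 2 + c) := by
  refine (upper H ε c h0 hs (2 * n) (-n)).trans (le_of_eq ?_)
  rw [pow_mul]
  push_cast
  ring

/-- A function with linear growth on both sides is bounded by `ε i² + c`. -/
theorem linear_le (H : ℤ → ℤ) (C : ℕ) (h : ∀ i, H i ≤ C * (|i| + 1)) (ε : ℚ) (hε : 0 < ε) :
    ∃ c : ℚ, ∀ i, (H i : ℚ) ≤ ε * (i : ℚ) ^ 2 + c := by
  refine ⟨C + (C : ℚ) ^ 2 / ε, fun i => ?_⟩
  have h1 : (H i : ℚ) ≤ C * (|(i : ℚ)| + 1) := by exact_mod_cast h i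
  have h2 : (C : ℚ) * |(i : ℚ)| ≤ ε * (i : ℚ) ^ 2 + (C : ℚ) ^ 2 / ε := by
    have h3 : (i : ℚ) ^ 2 = |(i : ℚ)| ^ 2 := (sq_abs _).symm
    rw [h3]
    have h4 : 0 ≤ (ε * |(i : ℚ)| - C / 2) ^ 2 := sq_nonneg _
    have h5 : ε * (ε * |(i : ℚ)| ^ 2 + (C : ℚ) ^ 2 / ε - C * |(i : ℚ)|) =
        (ε * |(i : ℚ)| - C / 2) ^ 2 + 3 / 4 * (C : ℚ) ^ 2 := by
      field_simp
      ring
    have h6 : 0 ≤ ε * (ε * |(i : ℚ)| ^ 2 + (C : ℚ) ^ 2 / ε - C * |(i : ℚ)|) := by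
      rw [h5]; positivity
    have h7 := (mul_nonneg_iff_of_pos_left hε).1 h6
    linarith
  linarith

/-- **The contradiction.** -/
theorem contradiction (f : ℤ → ℤ) (s ell : ℤ) (hf : ∀ i, f i - 2 * f (i + 1) + f (i + 2) = s)
    (T : ℕ → ℤ → ℤ) (h0 : ∀ i, T 0 i = f i) (hs : ∀ m i, T (m + 1) i = T m i + T m (i + 1) - 2 ^ m * ell)
    (H : ℕ → ℤ → ℤ) (C : ℕ) (hH0 : ∀ i, H 0 i ≤ C * (|i| + 1)) (hHs : ∀ m i, H (m + 1) i ≤ H m i + H m (i + 1))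
    (hpos : 4 * ell < s) : ∃ n : ℕ, 1 ≤ n ∧ H (2 * n) (-n) < T (2 * n) (-n) := by
  obtain ⟨c, hc⟩ := linear_le (H 0) C hH0 (1 / 4) (by norm_num)
  obtain ⟨n, hn⟩ := exists_nat_gt (8 * (c - f 0))
  refine ⟨n + 1, by omega, ?_⟩
  by_contra hle
  rw [not_lt] at hle
  have h1 : (T (2 * (n + 1)) (-((n + 1 : ℕ) : ℤ)) : ℚ) ≤ H (2 * (n + 1)) (-((n + 1 : ℕ) : ℤ)) := by
    exact_mod_cast hle
  rw [closed_mid f s ell hf T h0 hs] at h1
  have h2 := h1.trans (upper_mid H (1 / 4) c hc hHs (n + 1))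
  have h3 := le_of_mul_le_mul_left h2 (by positivity)
  have h4 : (1 : ℚ) ≤ s - 4 * ell := by
    have : (1 : ℤ) ≤ s - 4 * ell := by omega
    exact_mod_cast this
  push_cast at h3
  have h5 : ((n : ℚ) + 1) * 1 ≤ ((n : ℚ) + 1) * (s - 4 * ell) :=
    mul_le_mul_of_nonneg_left h4 (by positivity)
  nlinarith

end K427.BogAlg
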