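import Groth.Agent.Fga.HodgeForm
import Groth.Agent.Fga.IntAdd
import Groth.Agent.S1558
import Groth.Agent.VBCurve.K703.Det2
import Groth.Agent.VBCurve.K708.Dual
import Groth.Agent.Surf.K457.PicFin
import Groth.Agent.CurvesB.TwistIdeal
import Groth.Agent.Vancyc.H175.TensAdd
import Groth.Agent.Krr.H495.Rank
import Groth.Agent.PerfA.CohSerre
import Groth.Agent.AdjLin.K427.BogAlg
import Groth.Agent.AdjLin.K802.BundleCrit

/-!
# Euler characteristics of `E^{⊗m} ⊗ V` for an extension `0 → O → E → L ⊗ I_P → 0`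
-/

set_option autoImplicit false
universe u
open CategoryTheory CategoryTheory.Limits AlgebraicGeometry MonoidalCategory

namespace K427.BogChi

open scoped Groth.Agent.Dcoh.MonCat
open Groth.Agent Groth.Agent.Fga.PicMon Groth.Agent.Fga.HodgeIneq Groth.Agent.Fga.HodgeForm

variable {X : Scheme.{u}}

/-- `c` is the class of a finite locally free module of rank `r`. -/
def Rk (r : ℕ) (c : MC X) : Prop := ∃ F : X.Modules, mc F = c ∧ FlatMod.IsFinLocFreeOfRank r F

theorem Rk.of {r : ℕ} {F : X.Modules} (hF : FlatMod.IsFinLocFreeOfRank r F) : Rk r (mc F) := ⟨F, rfl, hF⟩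

theorem Rk.mul {r s : ℕ} {c d : MC X} (hc : Rk r c) (hd : Rk s d) : Rk (r * s) (c * d) := by
  obtain ⟨F, rfl, hF⟩ := hc
  obtain ⟨G, rfl, hG⟩ := hd
  exact ⟨CohB1.tensorMod F G, rfl, Krr.H495.Rank.rank_tensor hF hG⟩

theorem Rk.unit (u : (MC X)ˣ) : Rk 1 (u : MC X) := by
  obtain ⟨L, hL, hLu⟩ := exists_invertible u
  exact ⟨L, hLu, K703.Det2.inv_iff.2 hL⟩

theorem Rk.one : Rk 1 (1 : MC X) := Rk.unit 1

theorem Rk.pow {r : ℕ} {c : MC X} (hc : Rk r c) (n : ℕ) : Rk (r ^ n) (c ^ n) := by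
  induction n with
  | zero => rw [pow_zero, pow_zero]; exact Rk.one
  | succ n ih => rw [pow_succ, pow_succ]; exact ih.mul hc

variable (k : Type u) [Field k] [X.Over (Spec (CommRingCat.of k))] [IsProper (X ↘ Spec (CommRingCat.of k))]
  (hdim : topologicalKrullDim X ≤ (2 : ℕ))
  {L E : X.Modules} (hL : PicF.IsInvertible L) (hE : FlatMod.IsFinLocFreeOfRank 2 E)
  (I : X.IdealSheafData) (hfin : (I.support : Set X).Finite)
  {a : Coh.structureModule X ⟶ E} {b : E ⟶ CohB1.tensorMod L (ClSub.idealMod I)}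
  {w : a ≫ b = 0} (hS : (ShortComplex.mk a b w).ShortExact)

omit [IsProper (X ↘ Spec (CommRingCat.of k))] in
theorem χCl_mc (F : X.Modules) : χCl X k (mc F) = FGA.eulerCharLE k X F 2 := by
  unfold χCl
  rw [chiCl_mc, euler_iso k X (Ega2.Tens.runit F) 2]

include hdim in
theorem χ_add {S : ShortComplex X.Modules} (hS : S.ShortExact) (h1 : Coh.IsCoh S.X₁) (h2 : Coh.IsCoh S.X₂)
    (h3 : Coh.IsCoh S.X₃) : χCl X k (mc S.X₂) = χCl X k (mc S.X₁) + χCl X k (mc S.X₃) := by
  rw [χCl_mc, χCl_mc, χCl_mc]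
  exact Fga.IntAdd.isAdd_euler k X 2 hdim S hS h1 h2 h3

include hdim hfin in
theorem χ_quot {r : ℕ} {V : X.Modules} (hV : FlatMod.IsFinLocFreeOfRank r V) :
    χCl X k (mc (CohB1.tensorMod V (ClSub.quotMod I))) = r * FGA.eulerCharLE k X (ClSub.quotMod I) 2 := by
  have : IsNoetherian X := Fga.IntAdd.isNoetherian k X
  rw [χCl_mc, Fga.IntAdd.eulerCharLE_eq k X 2 hdim, Fga.IntAdd.eulerCharLE_eq k X 2 hdim,
    ← S1558.result k X (ClSub.quotMod I) (VarietyB.DegCartier.isCoh_quotMod I)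
      (CurvesB.TwistIdeal.dim_support_quotMod I
        (K457.PicFin.dim_le_zero_of_finite k I.support.isClosed hfin)) r V hV]
  have h := euler_iso k X (Ega2.Tens.swap V (ClSub.quotMod I)) 2
  rwa [Fga.IntAdd.eulerCharLE_eq k X 2 hdim, Fga.IntAdd.eulerCharLE_eq k X 2 hdim] at h

include hdim hfin hL hE hS in
/-- `χ(V ⊗ E) = χ(V) + χ(V ⊗ L) - r l(P)` for `V` locally free of rank `r`. -/
theorem χ_step {r : ℕ} {v : MC X} (hv : Rk r v) :
    χCl X k (v * mc E) = χCl X k v + χCl X k (v * mc L) - r * FGA.eulerCharLE k X (ClSub.quotMod I) 2 := by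
  obtain ⟨V, rfl, hV⟩ := hv
  have : IsNoetherian X := Fga.IntAdd.isNoetherian k X
  have hVf : FlatMod.IsFinLocFree V := Krr.H495.Rank.isFinLocFree_of_rank hV
  have hLf : FlatMod.IsFinLocFree L := K802.BundleCrit.isFinLocFree_of_isInvertible hL
  have hLr : FlatMod.IsFinLocFreeOfRank 1 L := K703.Det2.inv_iff.2 hL
  have hVL : FlatMod.IsFinLocFreeOfRank r (CohB1.tensorMod V L) := by
    have := Krr.H495.Rank.rank_tensor hV hLr
    rwa [mul_one] at this
  have hVLf : FlatMod.IsFinLocFree (CohB1.tensorMod V L) := Krr.H495.Rank.isFinLocFree_of_rank hVL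
  have hcoh : ∀ {F G : X.Modules}, FlatMod.IsFinLocFree F → Coh.IsCoh G → Coh.IsCoh (CohB1.tensorMod F G) :=
    fun {F G} hF hG => VarietyB.TensCoh.isCoh_tensorMod (VarietyB.TensCoh.HasBases.of_isFinLocFree hF) hG
  have hO : Coh.IsCoh (Coh.structureModule X) := CurvesB.UnitCoh.isCoh_structureModule X
  have hI : Coh.IsCoh (ClSub.idealMod I) := VarietyB.DegCartier.isCoh_idealMod I
  have hQ : Coh.IsCoh (ClSub.quotMod I) := VarietyB.DegCartier.isCoh_quotMod I
  have hLI : Coh.IsCoh (CohB1.tensorMod L (ClSub.idealMod I)) := hcoh hLf hI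
  -- the first sequence
  have h1 := K708.Dual.tensorLeft_shortExact hVf hS
  have h2 : Coh.IsCoh E := PerfA.CohSerre.isCoh_of_isFinLocFree (Krr.H495.Rank.isFinLocFree_of_rank hE)
  have e1 := χ_add k hdim h1 (hcoh hVf hO) (hcoh hVf h2) (hcoh hVf hLI)
  -- the second sequence
  have h3 := K708.Dual.tensorLeft_shortExact hVLf (VarietyB.DegCartier.idealSeq_shortExact I)
  have e2 := χ_add k hdim h3 (hcoh hVLf hI) (hcoh hVLf hO) (hcoh hVLf hQ)
  have e3 := χ_quot k hdim I hfin hVL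
  change χCl X k (mc V * mc E) = χCl X k (mc V * 1) + χCl X k (mc V * (mc L * mc (ClSub.idealMod I))) at e1
  change χCl X k (mc V * mc L * 1) = χCl X k (mc V * mc L * mc (ClSub.idealMod I)) +
    χCl X k (mc (CohB1.tensorMod (CohB1.tensorMod V L) (ClSub.quotMod I))) at e2
  rw [mul_one] at e1 e2
  rw [← mul_assoc] at e1
  rw [e1, e2, e3]
  ring

include hdim hfin hL hE hS in
/-- The Euler characteristics at the middle of the tensor powers, compared with a subadditive function. -/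
theorem exists_lt (l x : (MC X)ˣ) (hl : mc L = (l : MC X))
    (H : ℕ → ℤ → ℤ) (C : ℕ) (hH0 : ∀ i, H 0 i ≤ C * (|i| + 1)) (hHs : ∀ m i, H (m + 1) i ≤ H m i + H m (i + 1))
    (hpos : 4 * FGA.eulerCharLE k X (ClSub.quotMod I) 2 < form k X l l) :
    ∃ n : ℕ, 1 ≤ n ∧ H (2 * n) (-n) < χCl X k (mc E ^ (2 * n) * (((l ^ (-(n : ℤ)) * x : (MC X)ˣ)) : MC X)) := by
  have hf : ∀ i : ℤ, χCl X k ((l ^ i * x : (MC X)ˣ) : MC X) - 2 * χCl X k ((l ^ (i + 1) * x : (MC X)ˣ) : MC X) +
      χCl X k ((l ^ (i + 2) * x : (MC X)ˣ) : MC X) = form k X l l := by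
    intro i
    have h := second_difference k hdim (l ^ i * x) l l
    have e1 : l ^ (i + 1) * x = l ^ i * x * l := by rw [zpow_add_one, mul_right_comm]
    have e2 : l ^ (i + 2) * x = l ^ i * x * (l * l) := by
      rw [show i + 2 = i + 1 + 1 by ring, zpow_add_one, zpow_add_one]
      simp only [mul_assoc, mul_comm x]
    unfold form
    rw [← h, e1, e2]
    push_cast
    ring
  refine BogAlg.contradiction (fun i => χCl X k ((l ^ i * x : (MC X)ˣ) : MC X)) (form k X l l)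
    (FGA.eulerCharLE k X (ClSub.quotMod I) 2) hf
    (fun m i => χCl X k (mc E ^ m * ((l ^ i * x : (MC X)ˣ) : MC X))) (fun i => by simp) ?_ H C hH0 hHs hpos
  intro m i
  have hr : Rk (2 ^ m) (mc E ^ m * ((l ^ i * x : (MC X)ˣ) : MC X)) := by
    have := ((Rk.of hE).pow m).mul (Rk.unit (l ^ i * x))
    rwa [mul_one] at this
  have h := χ_step k hdim hL hE I hfin hS hr
  have e1 : mc E ^ (m + 1) * ((l ^ i * x : (MC X)ˣ) : MC X) =
      mc E ^ m * ((l ^ i * x : (MC X)ˣ) : MC X) * mc E := by rw [pow_succ, mul_right_comm]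
  have e2 : mc E ^ m * ((l ^ (i + 1) * x : (MC X)ˣ) : MC X) =
      mc E ^ m * ((l ^ i * x : (MC X)ˣ) : MC X) * mc L := by
    rw [hl, mul_assoc, ← Units.val_mul, zpow_add_one, mul_right_comm]
  beta_reduce
  rw [e1, e2, h]
  push_cast
  ring

end K427.BogChi
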