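import Groth.Agent.AdjLin.K427.BogDet
import Groth.Agent.AdjLin.K427.BogChi
import Groth.Agent.Pic13.K243.ZeroInv
import Groth.Agent.Krr.H482.PullTens
import Groth.Agent.Krr.H496.PullK0
import Groth.Agent.VarietyB.ProjForm
import Groth.Agent.CurvesC.CurveNum
import Groth.Agent.Variety.K420.DimDrop
import Groth.Agent.Variety.K432.ProperGrowth
import Groth.Agent.Variety.K433.HqBase

/-!
# Restriction of a rank two extension to a curve missing the points

`i : C → X` a closed immersion missing the support of `I`, `0 → O → E → L ⊗ I → 0` on `X`.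
-/

set_option autoImplicit false
universe u
open CategoryTheory CategoryTheory.Limits AlgebraicGeometry MonoidalCategory

namespace K427.BogCurve

open scoped Groth.Agent.Dcoh.MonCat
open Groth.Agent Groth.Agent.Fga.PicMon Groth.Agent.Fga.HodgeIneq Groth.Agent.Fga.HodgeForm K427.BogChi

variable {X C : Scheme.{u}}

/-- Pullback of classes. -/
noncomputable def pm (f : C ⟶ X) : MC X →* MC C where
  toFun := Quot.lift (fun F => mc ((Scheme.Modules.pullback f).obj F))
    fun _ _ ⟨e⟩ => mc_eq ((Scheme.Modules.pullback f).mapIso e)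
  map_one' := mc_eq (Krr.H482.PullTens.pullUnitIso f)
  map_mul' a b := by
    induction a using MC.ind with | h F => ?_
    induction b using MC.ind with | h G => ?_
    exact mc_eq (Krr.H482.PullTens.pullTensorIso f F G)

theorem pm_mc (f : C ⟶ X) (F : X.Modules) : pm f (mc F) = mc ((Scheme.Modules.pullback f).obj F) := rfl

section ext

variable {L E : X.Modules} (hL : PicF.IsInvertible L)
  (I : X.IdealSheafData) {a : Coh.structureModule X ⟶ E} {b : E ⟶ CohB1.tensorMod L (ClSub.idealMod I)}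
  {w : a ≫ b = 0} (hS : (ShortComplex.mk a b w).ShortExact)
  (f : C ⟶ X) (hf : ∀ c : C, f c ∉ I.support)

include hL hS hf in
/-- The extension pulls back to an extension of `L_C` by `O_C`. -/
theorem exists_ses : ∃ S : ShortComplex C.Modules, S.ShortExact ∧ mc S.X₁ = 1 ∧ mc S.X₂ = pm f (mc E) ∧
    mc S.X₃ = pm f (mc L) := by
  let U : X.Opens := ⟨(I.support : Set X)ᶜ, I.support.isClosed.isOpen_compl⟩
  have hr : Set.range f ⊆ Set.range U.ι := by
    rw [Scheme.Opens.range_ι]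
    rintro _ ⟨c, rfl⟩
    exact hf c
  let f' : C ⟶ U := IsOpenImmersion.lift U.ι f hr
  have hff : f' ≫ U.ι = f := IsOpenImmersion.lift_fac U.ι f hr
  have hpull : ∀ F : X.Modules, mc ((Scheme.Modules.pullback f').obj (F.restrict U.ι)) = pm f (mc F) := by
    intro F
    rw [pm_mc]
    refine mc_eq ?_
    refine (Scheme.Modules.pullback f').mapIso ((Scheme.Modules.restrictFunctorIsoPullback U.ι).app F) ≪≫
      (Scheme.Modules.pullbackComp f' U.ι).app F ≪≫ eqToIso ?_
    rw [hff]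
  have hS' := K802.BundleCrit.restrict_shortExact U hS
  obtain ⟨e⟩ := BogDet.nonempty_restrict_twist U L I (fun x hx => hx)
  have hinv : PicF.IsInvertible ((CohB1.tensorMod L (ClSub.idealMod I)).restrict U.ι) := by
    rw [← K703.Det2.inv_iff]
    exact Krr.H495.Rank.rank_iso e.symm (K703.Det2.inv_iff.2 (Flat2H.RelAmpleBasic.isInvertible_restrict hL U.ι))
  refine ⟨_, Krr.H496.PullK0.shortExact_pullback_of_isFinLocFree f' hS'
    (K802.BundleCrit.isFinLocFree_of_isInvertible hinv), ?_, ?_, ?_⟩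
  · exact (hpull _).trans (map_one (pm f))
  · exact hpull _
  · refine Eq.trans ?_ (hpull L)
    exact mc_eq ((Scheme.Modules.pullback f').mapIso e)

variable (k : Type u) [Field k] [C.Over (Spec (CommRingCat.of k))] [IsProper (C ↘ Spec (CommRingCat.of k))]

include hL hS hf in
/-- `h⁰(V ⊗ E_C) ≤ h⁰(V) + h⁰(V ⊗ L_C)`. -/
theorem step {r : ℕ} {v : MC C} (hv : Rk r v) :
    hCl C k 0 (v * pm f (mc E)) ≤ hCl C k 0 v + hCl C k 0 (v * pm f (mc L)) := by
  obtain ⟨V, rfl, hV⟩ := hv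
  have hNC : IsLocallyNoetherian C := LocallyOfFiniteType.isLocallyNoetherian (C ↘ Spec (CommRingCat.of k))
  obtain ⟨S, hS', h1, h2, h3⟩ := exists_ses hL I hS f hf
  have hVf : FlatMod.IsFinLocFree V := Krr.H495.Rank.isFinLocFree_of_rank hV
  have hT := K708.Dual.tensorLeft_shortExact hVf hS'
  have e1 : mc (S.map (tensorLeft V)).X₁ = mc V := by
    change mc V * mc S.X₁ = mc V
    rw [h1, mul_one]
  have e2 : mc (S.map (tensorLeft V)).X₂ = mc V * pm f (mc E) := by
    change mc V * mc S.X₂ = _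
    rw [h2]
  have e3 : mc (S.map (tensorLeft V)).X₃ = mc V * pm f (mc L) := by
    change mc V * mc S.X₃ = _
    rw [h3]
  have c1 : Coh.IsCoh (S.map (tensorLeft V)).X₁ := by
    obtain ⟨e⟩ := (mc_eq_iff _ _).1 e1
    exact Sga67.CohBasic.isCoh_of_iso e.symm (PerfA.CohSerre.isCoh_of_isFinLocFree hVf)
  have hLC : PicF.IsInvertible ((Scheme.Modules.pullback f).obj L) := Fdesc.LocGen.isInvertible_pullback f hL
  have c3 : Coh.IsCoh (S.map (tensorLeft V)).X₃ := by
    rw [pm_mc, ← mc_tensor] at e3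
    obtain ⟨e⟩ := (mc_eq_iff _ _).1 e3
    exact Sga67.CohBasic.isCoh_of_iso e.symm (PerfA.CohSerre.isCoh_of_isFinLocFree
      (Sga67.LocBasis.isFinLocFree_tensorMod hVf (K802.BundleCrit.isFinLocFree_of_isInvertible hLC)))
  have key := K433.Hq.hh_mid_le k _ hT c1 (CycB.CohProp.isCoh_extension _ hT c1 c3) c3 0
  have h : ((K433.Hq.hh k (S.map (tensorLeft V)).X₂ 0 : ℕ) : ℤ) ≤
      K433.Hq.hh k (S.map (tensorLeft V)).X₁ 0 + K433.Hq.hh k (S.map (tensorLeft V)).X₃ 0 := by exact_mod_cast key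
  have h4 : ∀ F : C.Modules, ((K433.Hq.hh k F 0 : ℕ) : ℤ) = hCl C k 0 (mc F) := fun F => rfl
  rw [h4, h4, h4, e1, e2, e3] at h
  exact h

end ext

section growth

variable (k : Type u) [Field k] [C.Over (Spec (CommRingCat.of k))] [IsProper (C ↘ Spec (CommRingCat.of k))]

/-- Growth of sections on a proper scheme of dimension at most one. -/
theorem growth_nat (hd : topologicalKrullDim C ≤ (1 : ℕ)) {F : C.Modules} (hF : Coh.IsCoh F) (u : (MC C)ˣ) :
    ∃ K : ℕ, ∀ n : ℕ, hCl C k 0 (mc F * ((u ^ n : (MC C)ˣ) : MC C)) ≤ K * (n + 1) := by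
  obtain ⟨M, hM, hMu⟩ := exists_invertible u
  have hd' : topologicalKrullDim (CohB1.support F) ≤ ((1 : ℕ) : WithBot ℕ∞) :=
    (Topology.IsInducing.subtypeVal.topologicalKrullDim_le (Y := CohB1.support F)).trans hd
  obtain ⟨K, hK⟩ := K432.ProperGrowth.growth k (Grpsch.PicGrp.mk M hM) hF hd'
  refine ⟨K, fun n => ?_⟩
  have h := hK n
  rw [K433.Growth.phi_succ, pow_one] at h
  have e : mc (CohB1.tensorMod F (CohB1.tensorPow M n)) = mc F * ((u ^ n : (MC C)ˣ) : MC C) := by
    rw [mc_tensor, mc_tensorPow, hMu, Units.val_pow_eq_pow_val]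
  have h2 : K433.Hq.hq k 0 F (Grpsch.PicGrp.mk M hM ^ n) = K433.Hq.hh k (CohB1.tensorMod F (CohB1.tensorPow M n)) 0 := by
    rw [← Grpsch.PicGrp.mk_tensorPow hM, K433.Hq.hq_mk]
  rw [h2] at h
  rw [← e]
  have h3 : ((K433.Hq.hh k (CohB1.tensorMod F (CohB1.tensorPow M n)) 0 : ℕ) : ℤ) ≤ K * (n + 1) := by exact_mod_cast h
  exact h3

theorem growth (hd : topologicalKrullDim C ≤ (1 : ℕ)) {F : C.Modules} (hF : Coh.IsCoh F) (u : (MC C)ˣ) :
    ∃ K : ℕ, ∀ i : ℤ, hCl C k 0 (mc F * ((u ^ i : (MC C)ˣ) : MC C)) ≤ K * (|i| + 1) := by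
  obtain ⟨K₁, h1⟩ := growth_nat k hd hF u
  obtain ⟨K₂, h2⟩ := growth_nat k hd hF u⁻¹
  refine ⟨K₁ + K₂, fun i => ?_⟩
  push_cast
  have hi : (0 : ℤ) ≤ |i| + 1 := by positivity
  rcases le_total 0 i with h | h
  · obtain ⟨n, rfl⟩ := Int.eq_ofNat_of_zero_le h
    rw [zpow_natCast]
    refine (h1 n).trans ?_
    rw [Nat.abs_cast]
    nlinarith [Nat.zero_le n, Nat.zero_le K₂, Nat.zero_le K₁,
      mul_nonneg (Int.natCast_nonneg K₂) (by positivity : (0 : ℤ) ≤ (n : ℤ) + 1)]
  · obtain ⟨n, hn⟩ := Int.eq_ofNat_of_zero_le (neg_nonneg.2 h)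
    obtain rfl : i = -(n : ℤ) := by omega
    rw [zpow_neg, zpow_natCast, ← inv_pow]
    refine (h2 n).trans ?_
    rw [abs_neg, Nat.abs_cast]
    nlinarith [mul_nonneg (Int.natCast_nonneg K₁) (by positivity : (0 : ℤ) ≤ (n : ℤ) + 1)]

end growth

section cut

variable (k : Type u) [Field k] [X.Over (Spec (CommRingCat.of k))] [IsProper (X ↘ Spec (CommRingCat.of k))]
  [IsIntegral X]

/-- Multiplication by a nonzero section of an invertible module. -/
theorem h0_le {N V : X.Modules} (hN : PicF.IsInvertible N) (hV : FlatMod.IsFinLocFree V)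
    (s : Coh.structureModule X ⟶ N) (hs : s ≠ 0) : hCl X k 0 (mc V) ≤ hCl X k 0 (mc V * mc N) := by
  have h1 : Mono s := CurvesB.RankOne.mono_of_ne_zero (CurvesB.InvEmb.locEmb_of_isInvertible hN) s hs
  have hS : (ShortComplex.mk s (cokernel.π s) (cokernel.condition s)).ShortExact :=
    { exact := ShortComplex.exact_of_g_is_cokernel _ (cokernelIsCokernel _)
      mono_f := h1
      epi_g := inferInstanceAs (Epi (cokernel.π s)) }
  have hT := K708.Dual.tensorLeft_shortExact hV hS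
  have hc : Coh.IsCoh (CohB1.tensorMod V N) := PerfA.CohSerre.isCoh_of_isFinLocFree
    (Sga67.LocBasis.isFinLocFree_tensorMod hV (K802.BundleCrit.isFinLocFree_of_isInvertible hN))
  have key := K433.Hq.hh_left_aux_zero k _ hT (S0002.result k X _ hc 0)
  have h : ((K433.Hq.hh k (CohB1.tensorMod V (Coh.structureModule X)) 0 : ℕ) : ℤ) ≤
      K433.Hq.hh k (CohB1.tensorMod V N) 0 := by exact_mod_cast key
  have h4 : ∀ F : X.Modules, ((K433.Hq.hh k F 0 : ℕ) : ℤ) = hCl X k 0 (mc F) := fun F => rfl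
  rw [h4, h4, mc_tensor, mc_tensor, mc_one, mul_one] at h
  exact h

variable {N : X.Modules} (hN : PicF.IsInvertible N) (s : Coh.structureModule X ⟶ N) (hs : s ≠ 0)
  [(PicF2.zeroScheme N s).subscheme.Over (Spec (CommRingCat.of k))]
  (hι : (PicF2.zeroScheme N s).subschemeι ≫ (X ↘ Spec (CommRingCat.of k)) =
    (PicF2.zeroScheme N s).subscheme ↘ Spec (CommRingCat.of k))

include hN hs hι in
/-- `h⁰(V) ≤ h⁰(V ⊗ N⁻¹) + h⁰(V|_D)`. -/
theorem cut {V : X.Modules} (hV : FlatMod.IsFinLocFree V) (n : (MC X)ˣ) (hn : mc N = (n : MC X)) :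
    hCl X k 0 (mc V) ≤ hCl X k 0 (mc V * ((n⁻¹ : (MC X)ˣ) : MC X)) +
      hCl (PicF2.zeroScheme N s).subscheme k 0 (pm (PicF2.zeroScheme N s).subschemeι (mc V)) := by
  have hNX : IsLocallyNoetherian X := LocallyOfFiniteType.isLocallyNoetherian (X ↘ Spec (CommRingCat.of k))
  have hT := K708.Dual.tensorLeft_shortExact hV (VarietyB.DegCartier.idealSeq_shortExact (PicF2.zeroScheme N s))
  have hcoh : ∀ {G : X.Modules}, Coh.IsCoh G → Coh.IsCoh (CohB1.tensorMod V G) :=
    fun {G} hG => VarietyB.TensCoh.isCoh_tensorMod (VarietyB.TensCoh.HasBases.of_isFinLocFree hV) hG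
  have c1 := hcoh (VarietyB.DegCartier.isCoh_idealMod (PicF2.zeroScheme N s))
  have c2 := hcoh (CurvesB.UnitCoh.isCoh_structureModule X)
  have c3 := hcoh (VarietyB.DegCartier.isCoh_quotMod (PicF2.zeroScheme N s))
  have key := K433.Hq.hh_mid_le k _ hT c1 c2 c3 0
  have h : ((K433.Hq.hh k (CohB1.tensorMod V (Coh.structureModule X)) 0 : ℕ) : ℤ) ≤
      K433.Hq.hh k (CohB1.tensorMod V (ClSub.idealMod (PicF2.zeroScheme N s))) 0 +
      K433.Hq.hh k (CohB1.tensorMod V (ClSub.quotMod (PicF2.zeroScheme N s))) 0 := by exact_mod_cast key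
  have h4 : ∀ F : X.Modules, ((K433.Hq.hh k F 0 : ℕ) : ℤ) = hCl X k 0 (mc F) := fun F => rfl
  have hid : mc (ClSub.idealMod (PicF2.zeroScheme N s)) = ((n⁻¹ : (MC X)ˣ) : MC X) := by
    obtain ⟨e⟩ := K243.ZeroInv.isInverseOf_idealMod hN s hs
    have h1 : mc N * mc (ClSub.idealMod (PicF2.zeroScheme N s)) = 1 := by
      rw [← mc_tensor, ← mc_one]; exact mc_eq e
    rw [hn] at h1
    calc mc (ClSub.idealMod (PicF2.zeroScheme N s))
        = ((n⁻¹ : (MC X)ˣ) : MC X) * ((n : MC X) * mc (ClSub.idealMod (PicF2.zeroScheme N s))) := by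
          rw [← mul_assoc, Units.inv_mul, one_mul]
      _ = _ := by rw [h1, mul_one]
  have e3 : CohB1.tensorMod V (ClSub.quotMod (PicF2.zeroScheme N s)) ≅
      (Scheme.Modules.pushforward (PicF2.zeroScheme N s).subschemeι).obj
        ((Scheme.Modules.pullback (PicF2.zeroScheme N s).subschemeι).obj V) :=
    VarietyB.ProjForm.projIsoUnit _ (VarietyB.TensCoh.HasBases.of_isFinLocFree hV)
  have h5 : hCl X k 0 (mc (CohB1.tensorMod V (ClSub.quotMod (PicF2.zeroScheme N s)))) =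
      hCl (PicF2.zeroScheme N s).subscheme k 0 (pm (PicF2.zeroScheme N s).subschemeι (mc V)) := by
    rw [mc_eq e3, pm_mc, hCl_mc, hCl_mc]
    exact congrArg Nat.cast (CurvesC.CurveNum.hhPushₗ k _ hι _ 0).finrank_eq.symm
  rw [h4, h4, h4, h5, mc_tensor, mc_tensor, mc_one, mul_one, hid] at h
  exact h

end cut

end K427.BogCurve
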