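import Groth.Agent.AdjLin.K427.BogDual
import Groth.Agent.AdjLin.K802.BundleCrit
import Groth.Agent.AdjLin.K802.SurfBase
import Groth.Agent.ProjDual.K272.ExtPair
import Groth.Agent.VBCurve.K703.Det2
import Groth.Agent.Flat2H.RelAmpleBasic
import Groth.Agent.Dual.H375.ExtRestr

/-!
# Rank two extensions `0 → O → E → L ⊗ I_P → 0` on a regular surface are self-dual up to `L`

`dl`: `E^∨ ≅ E ⊗ L⁻¹`.
-/

set_option autoImplicit false
universe u
open CategoryTheory CategoryTheory.Limits AlgebraicGeometry MonoidalCategory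

namespace K427.BogDet

open scoped Groth.Agent.Dcoh.MonCat
open Groth.Agent Groth.Agent.Fga.PicMon Groth.Agent.Fga.HodgeIneq K427.BogDual K802.UnitIso

variable {X : Scheme.{u}} (U : X.Opens)

/-- The inclusion `L ⊗ I ⟶ L ⊗ O` is an isomorphism over an open missing the support of `I`. -/
theorem isIso_restrict_twist (L : X.Modules) (I : X.IdealSheafData) (h : ∀ x ∈ U, x ∉ I.support) :
    IsIso ((Scheme.Modules.restrictFunctor U.ι).map ((DCoh.tensorBi.obj L).map (ClSub.idealModι I))) := by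
  have h1 := isIso_restrict_idealModι U I h
  have h2 := (Dcoh.TensRestr.restrNat U.ι).hom.app L |>.naturality (ClSub.idealModι I)
  have h3 : IsIso (((Scheme.Modules.restrictFunctor U.ι ⋙ DCoh.tensorBi ⋙
      (Functor.whiskeringLeft _ _ _).obj (Scheme.Modules.restrictFunctor U.ι)).obj L).map (ClSub.idealModι I)) := by
    change IsIso ((DCoh.tensorBi.obj ((Scheme.Modules.restrictFunctor U.ι).obj L)).map
      ((Scheme.Modules.restrictFunctor U.ι).map (ClSub.idealModι I)))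
    infer_instance
  have h4 : IsIso (((Dcoh.TensRestr.restrNat U.ι).hom.app L).app (ClSub.idealMod I) ≫
      ((DCoh.tensorBi ⋙ (Functor.whiskeringRight _ _ _).obj (Scheme.Modules.restrictFunctor U.ι)).obj L).map
        (ClSub.idealModι I)) := by
    rw [← h2]
    infer_instance
  exact @IsIso.of_isIso_comp_left _ _ _ _ _ (((Dcoh.TensRestr.restrNat U.ι).hom.app L).app (ClSub.idealMod I))
    ((Scheme.Modules.restrictFunctor U.ι).map ((DCoh.tensorBi.obj L).map (ClSub.idealModι I))) inferInstance h4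

/-- `(L ⊗ I)|_U ≅ L|_U`. -/
theorem nonempty_restrict_twist (L : X.Modules) (I : X.IdealSheafData) (h : ∀ x ∈ U, x ∉ I.support) :
    Nonempty ((CohB1.tensorMod L (ClSub.idealMod I)).restrict U.ι ≅ L.restrict U.ι) := by
  have h1 := isIso_restrict_twist U L I h
  exact ⟨@asIso _ _ _ _ ((Scheme.Modules.restrictFunctor U.ι).map
    ((DCoh.tensorBi.obj L).map (ClSub.idealModι I))) h1 ≪≫ (Scheme.Modules.restrictFunctor U.ι).mapIso (ρ_ L)⟩

theorem nonempty_of_restrict {D L : X.Modules} [IsIso ((η U).app D)] [IsIso ((η U).app L)]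
    (e : D.restrict U.ι ≅ L.restrict U.ι) : Nonempty (D ≅ L) :=
  ⟨asIso ((η U).app D) ≪≫ (Scheme.Modules.pushforward U.ι).mapIso e ≪≫ (asIso ((η U).app L)).symm⟩

variable {L E : X.Modules} (hL : PicF.IsInvertible L) (hE : FlatMod.IsFinLocFreeOfRank 2 E)
  (I : X.IdealSheafData) {a : Coh.structureModule X ⟶ E} {b : E ⟶ CohB1.tensorMod L (ClSub.idealMod I)}
  {w : a ≫ b = 0} (hS : (ShortComplex.mk a b w).ShortExact)

include hL hS in
/-- The determinant of `E` is `L` away from the support of `I`. -/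
theorem det_restrict (h : ∀ x ∈ U, x ∉ I.support) {D : X.Modules} (hD : ExtPow.IsExtPow 2 E D) :
    Nonempty (D.restrict U.ι ≅ L.restrict U.ι) := by
  have hS' := K802.BundleCrit.restrict_shortExact U hS
  obtain ⟨e⟩ := nonempty_restrict_twist U L I h
  have hL1 : FlatMod.IsFinLocFreeOfRank 1 (L.restrict U.ι) :=
    K703.Det2.inv_iff.2 (Flat2H.RelAmpleBasic.isInvertible_restrict hL U.ι)
  have hO1 : FlatMod.IsFinLocFreeOfRank 1 ((Coh.structureModule X).restrict U.ι) :=
    K703.Det2.inv_iff.2 (Flat2H.RelAmpleBasic.isInvertible_restrict Fdesc.LocGen.isInvertible_structureModule U.ι)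
  have e2 : Nonempty (CohB1.tensorMod ((Coh.structureModule X).restrict U.ι)
      ((CohB1.tensorMod L (ClSub.idealMod I)).restrict U.ι) ≅ D.restrict U.ι) :=
    K482.DetSes.det_ses hS' (a := 1) (b := 1) hO1 (Krr.H495.Rank.rank_iso e.symm hL1)
    (Sga67.TensorOps.isExtPow_one _) (L₂ := D.restrict U.ι) (Dual.H375.ExtRestr.isExtPow_restrict U hD)
    (Sga67.TensorOps.isExtPow_one _)
  rw [← mc_eq_iff, mc_tensor, mc_eq (Dcoh.Restrict.restrictUnit U.ι), mc_one, one_mul, mc_eq e] at e2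
  exact (mc_eq_iff _ _).1 e2.symm

variable [IsIntegral X] [IsLocallyNoetherian X]
  (hreg : ∀ x : X, IsRegularLocalRing (X.presheaf.stalk x)) (hdim : topologicalKrullDim X ≤ 2)
  (hI : ∀ x ∈ I.support, (2 : WithBot ℕ∞) ≤ ringKrullDim (X.presheaf.stalk x))

include hL hS hreg hdim hI in
theorem nonempty_det {D : X.Modules} (hD : ExtPow.IsExtPow 2 E D) (hDi : PicF.IsInvertible D) :
    Nonempty (D ≅ L) := by
  let U : X.Opens := ⟨(I.support : Set X)ᶜ, I.support.isClosed.isOpen_compl⟩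
  have hU : ∀ x : X, x ∉ U → (2 : WithBot ℕ∞) ≤ ringKrullDim (X.presheaf.stalk x) := fun x hx =>
    hI x (by_contra fun h => hx h)
  have h1 := isIso_unit U hreg hdim hU (Fga.HodgeSec.isCoh_of_isInvertible hDi)
    (K802.BundleCrit.isFinLocFree_of_isInvertible hDi)
  have h2 := isIso_unit U hreg hdim hU (Fga.HodgeSec.isCoh_of_isInvertible hL)
    (K802.BundleCrit.isFinLocFree_of_isInvertible hL)
  obtain ⟨e⟩ := det_restrict U hL I hS (fun x hx => hx) hD
  exact nonempty_of_restrict U e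

include hL hS hreg hdim hI hE in
/-- `E^∨ ≅ E ⊗ L⁻¹`. -/
theorem dl (l : (MC X)ˣ) (hl : mc L = (l : MC X)) : Dl (mc E) (mc E * ((l⁻¹ : (MC X)ˣ) : MC X)) := by
  obtain ⟨D, hD, hDi⟩ := K703.Det2.exists_det hE
  obtain ⟨e⟩ := nonempty_det hL I hS hreg hdim hI hD hDi
  obtain ⟨E', hE', ⟨p⟩⟩ := K708.Dual.exists_dual hE
  obtain ⟨e2⟩ := K272.ExtPair.nonempty_iso (p := 1) (q := 1) (n := 2) rfl hE (Sga67.TensorOps.isExtPow_one E)
    (Sga67.TensorOps.isExtPow_one E) hD
  obtain ⟨e3⟩ := K45.HomLift.nonempty_sheafHom_iso E E' D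
  have e4 : E ≅ CohB1.tensorMod D E' :=
    e2 ≪≫ ((Groth.Agent.Sga2.PnHomAdj.sheafHomIso E).app D).symm ≪≫ e3
  have h1 : mc E = mc L * mc E' := by rw [mc_eq e4, mc_tensor, mc_eq e]
  have h2 : mc E' = mc E * ((l⁻¹ : (MC X)ˣ) : MC X) := by
    rw [h1, hl, mul_comm, ← mul_assoc, Units.inv_mul, one_mul]
  rw [← h2]
  exact Dl.of (Krr.H495.Rank.isFinLocFree_of_rank hE) p

end K427.BogDet
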