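import Groth.Agent.Fga.HodgeForm
import Groth.Agent.Surf.K461.SerreLF
import Groth.Agent.Coherent.K45.HomLift
import Groth.Agent.VBCurve.K708.Dual
import Groth.Agent.ASBun.K791.Dual
import Groth.Agent.Sga67.TensorOps
import Groth.Agent.AdjLin.K802.BundleCrit
import Groth.Agent.CurvesC.DegIso

/-!
# Dual classes in the monoid of isomorphism classes of modules

`Dl c d`: the class `c` is represented by a finite locally free module whose dual represents `d`.
Closed under products and powers; `Dl u u⁻¹` for a unit; `serre`: `h²(c) = h⁰(ω d)` on a smooth proper surface.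
-/

set_option autoImplicit false
universe u
open CategoryTheory CategoryTheory.Limits AlgebraicGeometry MonoidalCategory

namespace K427.BogDual

open scoped Groth.Agent.Dcoh.MonCat
open Groth.Agent Groth.Agent.Fga.PicMon Groth.Agent.Fga.HodgeIneq

variable {X : Scheme.{u}}

/-- `c` is the class of a finite locally free module, `d` the class of its dual. -/
def Dl (c d : MC X) : Prop :=
  ∃ F G : X.Modules, mc F = c ∧ mc G = d ∧ FlatMod.IsFinLocFree F ∧ Nonempty (ExactPairing F G)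

theorem Dl.of {F G : X.Modules} (hF : FlatMod.IsFinLocFree F) (h : ExactPairing F G) : Dl (mc F) (mc G) :=
  ⟨F, G, rfl, rfl, hF, ⟨h⟩⟩

theorem Dl.mul {c d c' d' : MC X} (h : Dl c d) (h' : Dl c' d') : Dl (c * c') (d * d') := by
  obtain ⟨F, G, rfl, rfl, hF, ⟨p⟩⟩ := h
  obtain ⟨F', G', rfl, rfl, hF', ⟨p'⟩⟩ := h'
  refine ⟨F ⊗ F', G' ⊗ G, rfl, ?_, ?_, ⟨inferInstance⟩⟩
  · exact mul_comm (mc G') (mc G)
  · exact Sga67.LocBasis.isFinLocFree_tensorMod hF hF'

theorem Dl.one : Dl (1 : MC X) 1 :=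
  ⟨𝟙_ X.Modules, 𝟙_ X.Modules, rfl, rfl, Sga67.TensorOps.isFinLocFree_structureModule, ⟨inferInstance⟩⟩

theorem Dl.pow {c d : MC X} (h : Dl c d) (n : ℕ) : Dl (c ^ n) (d ^ n) := by
  induction n with
  | zero => rw [pow_zero, pow_zero]; exact Dl.one
  | succ n ih => rw [pow_succ, pow_succ]; exact ih.mul h

theorem Dl.unit (u : (MC X)ˣ) : Dl (u : MC X) ((u⁻¹ : (MC X)ˣ) : MC X) := by
  obtain ⟨L, hL, hLu⟩ := exists_invertible u
  obtain ⟨M, hM, hMu⟩ := exists_invertible u⁻¹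
  have hF : FlatMod.IsFinLocFree L := K802.BundleCrit.isFinLocFree_of_isInvertible hL
  obtain ⟨V, hV, ⟨p⟩⟩ := ASBun.K791.Dual.exists_dual hF
  have e1 : Nonempty (CohB1.tensorMod L M ≅ Coh.structureModule X) := by
    rw [← mc_eq_iff, mc_tensor, hLu, hMu, mc_one, Units.mul_inv]
  have e2 : Nonempty (CohB1.tensorMod M L ≅ Coh.structureModule X) := by
    rw [← mc_eq_iff, mc_tensor, hLu, hMu, mc_one, Units.inv_mul]
  obtain ⟨e1⟩ := e1
  obtain ⟨e2⟩ := e2
  have e : V ≅ M := ASBun.K791.Dual.dualIsoInverse (C := X.Modules) (W := L) (V := V) (L' := M) e1 e2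
  rw [← hLu, ← hMu, ← mc_eq e]
  exact Dl.of hF p

/-- The dual class is unique. -/
theorem Dl.unique {c d d' : MC X} (h : Dl c d) (h' : Dl c d') : d = d' := by
  obtain ⟨F, G, rfl, rfl, hF, ⟨p⟩⟩ := h
  obtain ⟨F', G', hc, rfl, hF', ⟨p'⟩⟩ := h'
  obtain ⟨e⟩ := (mc_eq_iff _ _).1 hc
  exact mc_eq (rightDualIso p (exactPairingCongrLeft e.symm))

section Serre

variable (k : Type u) [Field k] [X.Over (Spec (CommRingCat.of k))]
  [IsProper (X ↘ Spec (CommRingCat.of k))]
  [SmoothOfRelativeDimension 2 (X ↘ Spec (CommRingCat.of k))] {W : X.Modules}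
  (hW : ExtPow.IsExtPow 2 (Omega.sheaf (X ↘ Spec (CommRingCat.of k))) W)

include hW in
theorem serre {c d : MC X} (h : Dl c d) : hCl X k 2 c = hCl X k 0 (mc W * d) := by
  obtain ⟨F, G, rfl, rfl, hF, ⟨p⟩⟩ := h
  have hs : DCoh.HasSheafHom F := Sga2.PnHomAdj.hasSheafHom F
  rw [hCl_mc, ← mc_tensor, hCl_mc, K461.SerreLF.finrank_eq k 2 hW hF 0 2 rfl]
  obtain ⟨e⟩ := K45.HomLift.nonempty_sheafHom_iso F G W
  exact congrArg Nat.cast (CurvesC.DegIso.finrank_congr k e 0)

end Serre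

end K427.BogDual
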