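import Groth.Agent.AdjLin.K427.BogCurve
import Groth.Agent.AdjLin.K801.SmDim
import Groth.Agent.Ega1.GlobGenPt
import Groth.Agent.Fga.HypSec
import Groth.Agent.Dual.H339.OmegaRank
import Groth.Agent.S2324
import Groth.Agent.S2329
import Groth.Agent.Fga.HodgeAsm

/-!
# Growth of the twisted tensor powers of a rank two extension (Bogomolov, part I)

`X` a smooth proper surface over a perfect field, `A` ample, `0 → O → E → L ⊗ I_P → 0` with `E` locally free of rank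
two and `P` finite, `(L.L) > 4 l(P)`. Then `E^{⊗2n} ⊗ L^{-n} ⊗ A⁻¹` has a nonzero section for some `n ≥ 1`.
-/

set_option autoImplicit false
universe u
open CategoryTheory CategoryTheory.Limits AlgebraicGeometry MonoidalCategory

namespace K427.BogMain

open scoped Groth.Agent.Dcoh.MonCat
open Groth.Agent Groth.Agent.Fga.PicMon Groth.Agent.Fga.HodgeIneq Groth.Agent.Fga.HodgeForm
  K427.BogChi K427.BogCurve K427.BogDual Groth.Agent.Fdesc.LocGen

variable {X : Scheme.{u}}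

theorem ne_zero_of_mem_genLocus {N : X.Modules} (s : Coh.structureModule X ⟶ N) {x : X}
    (hx : x ∈ CohB1.genLocus N s) : s ≠ 0 := by
  rintro rfl
  obtain ⟨U, hU, hgenU⟩ := (mem_genLocus_iff _ _).mp hx
  have h5 : (1 : Γ(X, U)) = 0 := by
    apply hgenU.ext
    have h6 : sec (0 : Coh.structureModule X ⟶ N) U = 0 := rfl
    rw [h6, smul_zero, smul_zero]
  have : Nonempty U := ⟨⟨_, hU⟩⟩
  exact one_ne_zero h5

/-- A section of a power of `A` missing a finite set, the power being large enough to make `M` effective. -/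
theorem exists_pair [Nonempty X] [CompactSpace X] [X.IsSeparated] (A : X.Modules) (hA : CohB1.IsAmple A)
    (M : X.Modules) (hM : PicF.IsInvertible M) (T : Set X) (hT : T.Finite) :
    ∃ (N : X.Modules) (_ : PicF.IsInvertible N) (σ : Coh.structureModule X ⟶ N)
      (τ : Coh.structureModule X ⟶ CohB1.tensorMod N M), σ ≠ 0 ∧ τ ≠ 0 ∧ ∀ x ∈ T, x ∈ CohB1.genLocus N σ := by
  obtain ⟨n₀, hn₀, h1⟩ := S2329.result X A M hA hM
  have hA' : CohB1.IsAmple (CohB1.tensorPow A n₀) := Divis.NormAmple.isAmple_tensorPow hA hn₀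
  obtain ⟨x₀⟩ := ‹Nonempty X›
  obtain ⟨n, s, hs, -, -⟩ := S2324.result X (CohB1.tensorPow A n₀) hA' (insert x₀ T) (hT.insert x₀) ⊤
    (Set.subset_univ _)
  have hNa : CohB1.IsAmple (CohB1.tensorPow (CohB1.tensorPow A n₀) (n + 1)) :=
    Divis.NormAmple.isAmple_tensorPow hA' (Nat.succ_pos n)
  obtain ⟨h2, h3⟩ := h1 (n₀ * (n + 1)) (Nat.le_mul_of_pos_right _ (Nat.succ_pos n))
  obtain ⟨t, ht⟩ := Ega1.GlobGenPt.exists_mem_genLocus h2.1 h3 x₀
  have ht0 := ne_zero_of_mem_genLocus t ht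
  have e : Nonempty (CohB1.tensorMod (CohB1.tensorPow A (n₀ * (n + 1))) M ≅
      CohB1.tensorMod (CohB1.tensorPow (CohB1.tensorPow A n₀) (n + 1)) M) := by
    rw [← mc_eq_iff, mc_tensor, mc_tensor, mc_tensorPow, mc_tensorPow, mc_tensorPow, pow_mul]
  obtain ⟨e⟩ := e
  refine ⟨_, hNa.1, s, t ≫ e.hom, ne_zero_of_mem_genLocus s (hs (Set.mem_insert x₀ T)), ?_,
    fun x hx => hs (Set.mem_insert_of_mem _ hx)⟩
  intro h
  apply ht0
  rw [← cancel_mono e.hom, h, zero_comp]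

/-- The rank of a pullback. -/
theorem rank_pullback {Y : Scheme.{u}} {r : ℕ} (f : X ⟶ Y) {M : Y.Modules} (hM : FlatMod.IsFinLocFreeOfRank r M) :
    FlatMod.IsFinLocFreeOfRank r ((Scheme.Modules.pullback f).obj M) := by
  intro x
  obtain ⟨V, hV, ⟨e⟩⟩ := hM (f x)
  exact ⟨f ⁻¹ᵁ V, hV, ⟨(PerfB.FlatPull.pullbackRestrict f V).app M ≪≫
    (Scheme.Modules.pullback (f ∣_ V)).mapIso e ≪≫ PerfB.FlatPull.pullbackFreeMod _ r⟩⟩

section
variable (k : Type u) [Field k] [PerfectField k] [X.Over (Spec (CommRingCat.of k))]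
  [IsProper (X ↘ Spec (CommRingCat.of k))] [SmoothOfRelativeDimension 2 (X ↘ Spec (CommRingCat.of k))]
  [IsIntegral X] (hdim : topologicalKrullDim X = 2)
  {L E : X.Modules} (hL : PicF.IsInvertible L) (hE : FlatMod.IsFinLocFreeOfRank 2 E)
  (I : X.IdealSheafData) (hfin : (I.support : Set X).Finite)
  {a : Coh.structureModule X ⟶ E} {b : E ⟶ CohB1.tensorMod L (ClSub.idealMod I)}
  {w : a ≫ b = 0} (hS : (ShortComplex.mk a b w).ShortExact)

include hdim hL hE hfin hS in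
/-- Some `E^{⊗2n} ⊗ L^{-n} ⊗ A⁻¹` has a nonzero section. -/
theorem core (A : X.Modules) (hA : CohB1.IsAmple A) (α l : (MC X)ˣ) (hα : mc A = (α : MC X))
    (hl : mc L = (l : MC X)) (hpos : 4 * FGA.eulerCharLE k X (ClSub.quotMod I) 2 < form k X l l) :
    ∃ n : ℕ, 1 ≤ n ∧ 0 < hCl X k 0 (mc E ^ (2 * n) * (((l ^ (-(n : ℤ)) * α⁻¹ : (MC X)ˣ)) : MC X)) := by
  by_contra hcon
  push Not at hcon
  have hsm : Smooth (X ↘ Spec (CommRingCat.of k)) :=
    SmoothOfRelativeDimension.smooth 2 (X ↘ Spec (CommRingCat.of k))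
  have hNoeth : IsNoetherian X := Fga.IntAdd.isNoetherian k X
  have hsep : X.IsSeparated := Fga.HypSec.isSeparated k X
  have hdim2 : topologicalKrullDim X ≤ (2 : ℕ) := hdim.le
  -- the canonical module
  have hΩ := Dual.H339.OmegaRank.isFinLocFreeOfRank_omega 2 (X ↘ Spec (CommRingCat.of k))
  obtain ⟨W, hW, hWi⟩ := K703.Det2.exists_det hΩ
  obtain ⟨ω, hω⟩ : ∃ ω : (MC X)ˣ, mc W = (ω : MC X) := by
    obtain ⟨W', hW', ⟨e⟩⟩ := Grpsch.PicGrp.exists_inverse hWi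
    exact ⟨unitOf W W' ⟨e⟩, rfl⟩
  -- the dual of `E`
  have hreg : ∀ x : X, IsRegularLocalRing (X.presheaf.stalk x) :=
    K802.SurfBase.regular (X ↘ Spec (CommRingCat.of k))
  have hI2 : ∀ x ∈ I.support, (2 : WithBot ℕ∞) ≤ ringKrullDim (X.presheaf.stalk x) := fun x hx =>
    K802.SurfBase.two_le (X ↘ Spec (CommRingCat.of k)) hdim I.support.isClosed hfin x hx
  have hdl := BogDet.dl hL hE I hS hreg hdim.le hI2 l hl
  -- the curve
  obtain ⟨M, hM, hMu⟩ := exists_invertible (ω⁻¹ * (α⁻¹ * α⁻¹))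
  obtain ⟨N, hN, σ, τ, hσ, hτ, hT⟩ := exists_pair A hA M hM (I.support : Set X) hfin
  obtain ⟨ν, hν⟩ : ∃ ν : (MC X)ˣ, mc N = (ν : MC X) := by
    obtain ⟨N', hN', ⟨e⟩⟩ := Grpsch.PicGrp.exists_inverse hN
    exact ⟨unitOf N N' ⟨e⟩, rfl⟩
  let C := (PicF2.zeroScheme N σ).subscheme
  let i : C ⟶ X := (PicF2.zeroScheme N σ).subschemeι
  let iC : C.Over (Spec (CommRingCat.of k)) := ⟨i ≫ (X ↘ Spec (CommRingCat.of k))⟩
  have hi : i ≫ (X ↘ Spec (CommRingCat.of k)) = C ↘ Spec (CommRingCat.of k) := rfl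
  have hCp : IsProper (C ↘ Spec (CommRingCat.of k)) := by rw [← hi]; infer_instance
  have hmiss : ∀ c : C, i c ∉ I.support := by
    intro c hc
    have h1 := hT _ hc
    have h2 : i c ∈ (PicF2.zeroScheme N σ).support := by
      rw [← SetLike.mem_coe, ← Scheme.IdealSheafData.range_subschemeι]
      exact ⟨c, rfl⟩
    exact (Pi1C.ZeroScheme.mem_support_iff σ hN _).1 h2 h1
  have hCd : topologicalKrullDim C ≤ (1 : ℕ) := by
    have h1 := K420.DimDrop.dim_support_le X 1 hdim.le (PicF2.zeroScheme N σ)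
      (K243.ZeroInv.isEffCartier_zeroScheme hN σ hσ)
    have h2 : topologicalKrullDim C ≤ topologicalKrullDim ((PicF2.zeroScheme N σ).support : Set X) := by
      have h3 : Topology.IsInducing (fun c : C => (⟨i c, by
          rw [← Scheme.IdealSheafData.range_subschemeι]; exact ⟨c, rfl⟩⟩ :
            ((PicF2.zeroScheme N σ).support : Set X))) := by
        rw [← Topology.IsInducing.subtypeVal.of_comp_iff]
        exact (PicF2.zeroScheme N σ).subschemeι.isClosedEmbedding.isInducing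
      exact h3.topologicalKrullDim_le
    exact h2.trans h1
  -- the numerical functions
  let φ := Units.map (pm i)
  obtain ⟨B, hB, hBu⟩ := exists_invertible (φ (ω * α))
  obtain ⟨K, hK⟩ := growth k hCd (Fga.HodgeSec.isCoh_of_isInvertible hB) (φ l)
  let H : ℕ → ℤ → ℤ := fun m j => hCl C k 0 (pm i (mc E) ^ m * ((φ l ^ j * φ (ω * α) : (MC C)ˣ) : MC C))
  have hH0 : ∀ j, H 0 j ≤ K * (|j| + 1) := by
    intro j
    refine le_of_eq_of_le ?_ (hK j)
    change hCl C k 0 _ = _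
    rw [pow_zero, one_mul, hBu, ← Units.val_mul, mul_comm]
  have hHs : ∀ m j, H (m + 1) j ≤ H m j + H m (j + 1) := by
    intro m j
    have hr : Rk (2 ^ m) (pm i (mc E) ^ m * ((φ l ^ j * φ (ω * α) : (MC C)ˣ) : MC C)) := by
      have hEC : FlatMod.IsFinLocFreeOfRank 2 ((Scheme.Modules.pullback i).obj E) := rank_pullback i hE
      have := ((Rk.of hEC).pow m).mul (Rk.unit (φ l ^ j * φ (ω * α)))
      rwa [mul_one] at this
    have h := step hL I hS i hmiss k hr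
    have e1 : pm i (mc E) ^ (m + 1) * ((φ l ^ j * φ (ω * α) : (MC C)ˣ) : MC C) =
        pm i (mc E) ^ m * ((φ l ^ j * φ (ω * α) : (MC C)ˣ) : MC C) * pm i (mc E) := by
      rw [pow_succ, mul_right_comm]
    have e2 : pm i (mc E) ^ m * ((φ l ^ (j + 1) * φ (ω * α) : (MC C)ˣ) : MC C) =
        pm i (mc E) ^ m * ((φ l ^ j * φ (ω * α) : (MC C)ˣ) : MC C) * pm i (mc L) := by
      have : pm i (mc L) = ((φ l : (MC C)ˣ) : MC C) := by rw [hl]; rfl
      rw [this, mul_assoc, ← Units.val_mul, zpow_add_one, mul_right_comm (φ l ^ j) (φ l)]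
    change hCl C k 0 _ ≤ hCl C k 0 _ + hCl C k 0 _
    rw [e1, e2]
    exact h
  obtain ⟨n, hn, hlt⟩ := exists_lt k hdim2 hL hE I hfin hS l α⁻¹ hl H K hH0 hHs hpos
  have h0 := hcon n hn
  set g : MC X := mc E ^ (2 * n) * (((l ^ (-(n : ℤ)) : (MC X)ˣ)) : MC X) with hg
  have hgα : mc E ^ (2 * n) * (((l ^ (-(n : ℤ)) * α⁻¹ : (MC X)ˣ)) : MC X) = g * ((α⁻¹ : (MC X)ˣ) : MC X) := by
    rw [hg, mul_assoc, ← Units.val_mul]
  rw [hgα] at h0 hlt
  -- duality
  have hd : Dl (g * ((α⁻¹ : (MC X)ˣ) : MC X)) (g * (α : MC X)) := by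
    have h1 := ((hdl.pow (2 * n)).mul (Dl.unit (l ^ (-(n : ℤ))))).mul (Dl.unit α⁻¹)
    have e : (mc E * ((l⁻¹ : (MC X)ˣ) : MC X)) ^ (2 * n) * (((l ^ (-(n : ℤ)))⁻¹ : (MC X)ˣ) : MC X) = g := by
      rw [hg, mul_pow, mul_assoc]
      congr 1
      rw [← Units.val_pow_eq_pow_val, ← Units.val_mul]
      congr 1
      rw [zpow_neg, inv_inv, inv_pow, zpow_natCast, two_mul, pow_add, mul_inv, inv_mul_cancel_right]
    rw [e, inv_inv] at h1
    exact h1
  have h2 := serre k hW hd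
  -- the cut
  have hflf : ∀ m : ℕ, ∀ u : (MC X)ˣ, ∃ V : X.Modules, FlatMod.IsFinLocFree V ∧ mc V = mc E ^ m * (u : MC X) := by
    intro m u
    obtain ⟨V, hV, hVr⟩ := ((Rk.of hE).pow m).mul (Rk.unit u)
    exact ⟨V, Krr.H495.Rank.isFinLocFree_of_rank hVr, hV⟩
  obtain ⟨V, hV, hVe⟩ := hflf (2 * n) (l ^ (-(n : ℤ)) * (ω * α))
  have h3 := cut k hN σ hσ hi hV ν hν
  have e4 : mc V = mc W * (g * (α : MC X)) := by
    rw [hVe, hg, hω, Units.val_mul, Units.val_mul]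
    ac_rfl
  have e5 : pm i (mc V) = pm i (mc E) ^ (2 * n) * ((φ l ^ (-(n : ℤ)) * φ (ω * α) : (MC C)ˣ) : MC C) := by
    rw [hVe, map_mul, map_pow]
    congr 1
    change ((φ (l ^ (-(n : ℤ)) * (ω * α)) : (MC C)ˣ) : MC C) = _
    rw [map_mul, map_zpow]
  have h4 : hCl X k 0 (mc V * ((ν⁻¹ : (MC X)ˣ) : MC X)) ≤ 0 := by
    obtain ⟨V', hV', hVe'⟩ := hflf (2 * n) (l ^ (-(n : ℤ)) * (ω * α) * ν⁻¹)
    have h5 := h0_le k (isInvertible_tensorMod hN hM) hV' τ hτ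
    have e6 : mc V' = mc V * ((ν⁻¹ : (MC X)ˣ) : MC X) := by
      rw [hVe', hVe, Units.val_mul (l ^ (-(n : ℤ)) * (ω * α)) ν⁻¹, ← mul_assoc]
    have e7 : mc V' * mc (CohB1.tensorMod N M) = g * ((α⁻¹ : (MC X)ˣ) : MC X) := by
      have e8 : l ^ (-(n : ℤ)) * (ω * α) * ν⁻¹ * (ν * (ω⁻¹ * (α⁻¹ * α⁻¹))) = l ^ (-(n : ℤ)) * α⁻¹ := by
        have e9 : l ^ (-(n : ℤ)) * (ω * α) * ν⁻¹ * (ν * (ω⁻¹ * (α⁻¹ * α⁻¹))) =
            l ^ (-(n : ℤ)) * ((ν⁻¹ * ν) * ((ω * ω⁻¹) * ((α * α⁻¹) * α⁻¹))) := by ac_rfl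
        rw [e9, inv_mul_cancel, mul_inv_cancel, mul_inv_cancel, one_mul, one_mul, one_mul]
      rw [mc_tensor, hν, hMu, hVe', ← Units.val_mul ν, mul_assoc (mc E ^ (2 * n)),
        ← Units.val_mul _ (ν * (ω⁻¹ * (α⁻¹ * α⁻¹))), e8, hg, mul_assoc, ← Units.val_mul]
    rw [← e6]
    rw [e7] at h5
    exact h5.trans h0
  have h6 := χCl_le (Z := X) k (g * ((α⁻¹ : (MC X)ˣ) : MC X))
  rw [e4] at h3 h4
  rw [← e4, e5, e4] at h3
  have h7 : H (2 * n) (-n) = hCl C k 0 (pm i (mc E) ^ (2 * n) * ((φ l ^ (-(n : ℤ)) * φ (ω * α) : (MC C)ˣ) : MC C)) := rfl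
  rw [h7] at hlt
  linarith

end

/-- **Bogomolov's growth lemma.** On a smooth proper surface over a perfect field, with `A` ample and
`0 → O → E → L ⊗ I_P → 0` exact, `E` locally free of rank two, `P` finite and `(L.L) > 4 l(P)`, some
`E^{⊗ 2n} ⊗ L^{-n} ⊗ A⁻¹` with `n ≥ 1` has a nonzero section. -/
theorem main (k : Type u) [Field k] [PerfectField k] (X : Scheme.{u}) [X.Over (Spec (CommRingCat.of k))]
    [IsProper (X ↘ Spec (CommRingCat.of k))] [Smooth (X ↘ Spec (CommRingCat.of k))] [IrreducibleSpace X]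
    (hdim : topologicalKrullDim X = 2) (A Ainv : X.Modules) (hA : CohB1.IsAmple A)
    (hAinv : ClSub.IsInverseOf Ainv A) (L Linv : X.Modules) (hL : PicF.IsInvertible L)
    (hLinv : ClSub.IsInverseOf Linv L) (E : X.Modules) (hE : FlatMod.IsFinLocFreeOfRank 2 E)
    (I : X.IdealSheafData) (hfin : (I.support : Set X).Finite)
    (a : Coh.structureModule X ⟶ E) (b : E ⟶ CohB1.tensorMod L (ClSub.idealMod I)) (w : a ≫ b = 0)
    (hS : (ShortComplex.mk a b w).ShortExact)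
    (hpos : 4 * FGA.eulerCharLE k X (ClSub.quotMod I) 2 <
      FGA.intNum k X 2 ![Linv, Linv] (Coh.structureModule X)) :
    ∃ n : ℕ, 1 ≤ n ∧ ∃ s : Coh.structureModule X ⟶ CohB1.tensorMod
      (CohB1.tensorMod (CohB1.tensorPow E (2 * n)) (CohB1.tensorPow Linv n)) Ainv, s ≠ 0 := by
  have : IsIntegral X := K801.SmDim.isIntegral_of_smooth k X
  have : SmoothOfRelativeDimension 2 (X ↘ Spec (CommRingCat.of k)) :=
    K801.SmDim.relDim_of_smooth k X 2 hdim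
  have hdim2 : topologicalKrullDim X ≤ (2 : ℕ) := hdim.le
  have hl1 : mc Linv = (((unitOf Linv L hLinv)⁻¹⁻¹ : (MC X)ˣ) : MC X) := by rw [inv_inv]; rfl
  have hl2 : mc L = (((unitOf Linv L hLinv)⁻¹ : (MC X)ˣ) : MC X) := rfl
  have hα1 : mc Ainv = (((unitOf Ainv A hAinv)⁻¹⁻¹ : (MC X)ˣ) : MC X) := by rw [inv_inv]; rfl
  have hα2 : mc A = (((unitOf Ainv A hAinv)⁻¹ : (MC X)ˣ) : MC X) := rfl
  rw [Fga.HodgeAsm.intNum_two k X Linv Linv _ _ hl1 hl1, form_inv_inv k X hdim2] at hpos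
  obtain ⟨n, hn, h⟩ := core k hdim hL hE I hfin hS A hA _ _ hα2 hl2 hpos
  refine ⟨n, hn, Fga.HodgeSec.exists_section (k := k) ?_⟩
  have e : mc (CohB1.tensorMod (CohB1.tensorMod (CohB1.tensorPow E (2 * n)) (CohB1.tensorPow Linv n)) Ainv) =
      mc E ^ (2 * n) * ((((unitOf Linv L hLinv)⁻¹ ^ (-(n : ℤ)) * (unitOf Ainv A hAinv)⁻¹⁻¹ : (MC X)ˣ)) : MC X) := by
    rw [mc_tensor, mc_tensor, mc_tensorPow, mc_tensorPow, hl1, hα1, Units.val_mul, zpow_neg, zpow_natCast,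
      ← inv_pow, Units.val_pow_eq_pow_val, mul_assoc]
  rw [← e, hCl_mc] at h
  exact_mod_cast h

end K427.BogMain
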